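import Groth.Agent.BunMod.K761.GenRank
import Groth.Agent.BunMod.K890.KSDefs
import Groth.Agent.BunMod.K524.X1Coker
import Groth.Agent.Krr.H487.LocBasisPull
import Groth.Agent.CohqA.HBiprod
import Groth.Agent.Sga67.QCohEpi
import Groth.Agent.VBPn.K945.GenSec

/-!
# The cokernel at a point of codimension at most one is locally free (S16926, VP-rank)

`K` of rank one, `G` of rank `n + 1`, `2 ≤ n`, on a curve `X` over `k`, `e i : K ⟶ G` generating `Hom(K, G)` at every
point; `γ : Fin M → Ω` with `Gen k γ`. Then the cokernel of `∑ γ_i e_i` on `X_Ω` is locally free of rank `n`.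
-/

set_option autoImplicit false
universe u

open CategoryTheory CategoryTheory.Limits AlgebraicGeometry TopologicalSpace Opposite

namespace K761.VpRank

open Groth.Agent Groth.Agent.Sga67.Sec Groth.Agent.Sga67.LocBasis Groth.Agent.Krr.H487.LocBasisPull
open K140.BM K524.X1Fam K311.KE K890.KS K276.GenAlg

section local1

variable {Y : Scheme.{u}} {K G : Y.Modules} {n : ℕ}

/-- If one coordinate of the image of a section of `K` is invertible at `z`, the cokernel has `n` generators near `z`. -/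
theorem notMem_support (hqK : Coh.IsQCoh K) (hG : FlatMod.IsFinLocFreeOfRank (n + 1) G) (u : K ⟶ G) {W : Y.Opens}
    (κ : Sec K W) {s : Fin (n + 1) → Sec G W} (hs : IsLocBasis s) (A : Fin (n + 1) → Γ(Y, W))
    (hu : appS u W κ = ∑ a, A a • s a) {z : Y} (a : Fin (n + 1)) (hz : z ∈ Y.basicOpen (A a)) :
    z ∉ (Fitt.sheafIdeal (cokernel u) n).support := by
  classical
  have hqG := K524.X1Coker.qcoh_of_rank hG
  have hqC : Coh.IsQCoh (cokernel u) := PerfA.QCohSerre.isQCoh_cokernel u hqK hqG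
  have hft : CohB1.IsFT (cokernel u) := K524.X1Coker.isFT_cokernel hG u
  obtain ⟨V, hV, hzV, hVA⟩ := exists_isAffineOpen_mem_and_subset (x := z) (U := Y.basicOpen (A a)) hz
  have hVW : V ≤ W := hVA.trans (Y.basicOpen_le _)
  -- `A a` is invertible on `V`
  have hunit : IsUnit (resO Y hVW (A a)) := by
    have h1 : IsUnit (resO Y (Y.basicOpen_le (A a)) (A a)) := Y.toRingedSpace.isUnit_res_basicOpen (A a)
    have h2 := h1.map (resO Y hVA)
    rwa [resO_resO] at h2
  obtain ⟨c, hc⟩ := hunit.exists_left_inv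
  let π := cokernel.π u
  let t : Fin (n + 1) → Sec (cokernel u) V := fun b => appS π V (res G hVW (s b))
  have hspan : Submodule.span Γ(Y, V) (Set.range t) = ⊤ := by
    rw [eq_top_iff]
    intro y _
    obtain ⟨g, hg⟩ := (K524.X1Coker.exact_affine u hqK hqG hV).1 y
    obtain ⟨c', hc'⟩ := (hs V hVW).2 g
    have h1 : y = ∑ b, c' b • t b := by
      have h2 : appS π V g = y := hg
      rw [← h2, ← hc', comb_apply, map_sum]
      refine Finset.sum_congr rfl fun b _ => ?_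
      rw [map_smul]
    rw [h1]
    exact Submodule.sum_mem _ fun b _ => Submodule.smul_mem _ _ (Submodule.subset_span ⟨b, rfl⟩)
  have hrel : ∑ b, resO Y hVW (A b) • t b = 0 := by
    have h1 : appS π V (res G hVW (appS u W κ)) = 0 := by
      rw [← appS_res, ← appS_comp]
      have h2 : u ≫ π = 0 := cokernel.condition u
      rw [h2]
      rfl
    rw [hu, map_sum, map_sum] at h1
    rw [← h1]
    refine Finset.sum_congr rfl fun b _ => ?_
    rw [res_smul, map_smul]
  have hta : t a ∈ Submodule.span Γ(Y, V) (Set.range fun b : Fin n => t (a.succAbove b)) := by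
    rw [Fin.sum_univ_succAbove _ a] at hrel
    have h1 : t a = -(c • ∑ b : Fin n, resO Y hVW (A (a.succAbove b)) • t (a.succAbove b)) := by
      have h2 := congrArg (fun w => c • w) hrel
      simp only [smul_add, smul_smul, hc, one_smul, smul_zero] at h2
      exact eq_neg_of_add_eq_zero_left h2
    rw [h1]
    refine Submodule.neg_mem _ (Submodule.smul_mem _ _ (Submodule.sum_mem _ fun b _ => ?_))
    exact Submodule.smul_mem _ _ (Submodule.subset_span ⟨b, rfl⟩)
  have hspan' : Submodule.span Γ(Y, V) (Set.range fun b : Fin n => t (a.succAbove b)) = ⊤ := by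
    rw [eq_top_iff, ← hspan, Submodule.span_le]
    rintro _ ⟨b, rfl⟩
    by_cases hb : b = a
    · rw [hb]; exact hta
    · obtain ⟨b', rfl⟩ := Fin.exists_succAbove_eq hb
      exact Submodule.subset_span ⟨b', rfl⟩
  exact Groth.Agent.SDiv.K474.FittLoc.not_mem_support_of_span _ hqC hft n z hV
    (fun b : Fin n => t (a.succAbove b)) hzV hspan'

end local1

section bases

variable {X : Scheme.{u}} {K G : X.Modules} {M n : ℕ}

theorem exists_bases (hK : FlatMod.IsFinLocFreeOfRank 1 K) (hG : FlatMod.IsFinLocFreeOfRank (n + 1) G) (x : X) :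
    ∃ (V : X.Opens) (_ : IsAffineOpen V) (κ : Fin 1 → Sec K V) (g : Fin (n + 1) → Sec G V),
      x ∈ V ∧ IsLocBasis κ ∧ IsLocBasis g := by
  obtain ⟨U₁, hx₁, h₁⟩ := hK x
  obtain ⟨κ₁, hκ₁⟩ := nonempty_restrict_iso_iff.1 h₁
  obtain ⟨U₂, hx₂, h₂⟩ := hG x
  obtain ⟨g₂, hg₂⟩ := nonempty_restrict_iso_iff.1 h₂
  obtain ⟨V, hV, hxV, hVU⟩ := exists_isAffineOpen_mem_and_subset (x := x) (U := U₁ ⊓ U₂) ⟨hx₁, hx₂⟩
  have h1 : V ≤ U₁ ⊓ U₂ := hVU
  exact ⟨V, hV, _, _, hxV, hκ₁.restrict (h1.trans inf_le_left), hg₂.restrict (h1.trans inf_le_right)⟩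

/-- Over an affine open every section of `G` is a combination of the images of a basis of `K`. -/
theorem exists_coeff (e : Fin M → (K ⟶ G)) (hqK : Coh.IsQCoh K) (hqG : Coh.IsQCoh G) (he : Epi (biproduct.desc e))
    {V : X.Opens} (hV : IsAffineOpen V) {κ : Fin 1 → Sec K V} (hκ : IsLocBasis κ) (t : Sec G V) :
    ∃ r : Fin M → Γ(X, V), t = ∑ l, r l • appS (e l) V (κ 0) := by
  classical
  obtain ⟨w, hw⟩ := Groth.Agent.Sga67.QCohEpi.app_surjective (biproduct.desc e)
    (Groth.Agent.CohqA.HBiprod.isQCoh_biproduct _ fun _ => hqK) hqG hV t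
  have h1 : ∀ l, ∃ r : Γ(X, V), appS (biproduct.π (fun _ : Fin M => K) l) V w = r • κ 0 := by
    intro l
    obtain ⟨c, hc⟩ := (hκ V le_rfl).2 (appS (biproduct.π (fun _ : Fin M => K) l) V w)
    refine ⟨c 0, ?_⟩
    rw [← hc, comb_apply, Fin.sum_univ_one, res_self]
  choose r hr using h1
  refine ⟨r, ?_⟩
  have h2 : biproduct.desc e = ∑ l, biproduct.π (fun _ : Fin M => K) l ≫ e l := biproduct.desc_eq
  have h3 : appS (biproduct.desc e) V w = t := hw
  rw [← h3, h2, appS_sum]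
  refine Finset.sum_congr rfl fun l _ => ?_
  rw [appS_comp, hr, map_smul]

/-- Coordinates in a local basis. -/
theorem exists_coord {V : X.Opens} {g : Fin n → Sec G V} (hg : IsLocBasis g) (t : Sec G V) :
    ∃ c : Fin n → Γ(X, V), t = ∑ a, c a • g a := by
  obtain ⟨c, hc⟩ := (hg V le_rfl).2 t
  refine ⟨c, ?_⟩
  rw [← hc, comb_apply]
  exact Finset.sum_congr rfl fun a _ => by rw [res_self]

theorem coord_unique {V : X.Opens} {g : Fin n → Sec G V} (hg : IsLocBasis g) {c c' : Fin n → Γ(X, V)}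
    (h : ∑ a, c a • g a = ∑ a, c' a • g a) : c = c' := by
  refine (hg V le_rfl).1 ?_
  rw [comb_apply, comb_apply]
  simpa only [res_self] using h

end bases

section main

variable {k : Type u} [Field k] {X : Scheme.{u}} [X.Over (Spec (CommRingCat.of k))] {K G : X.Modules} {M n : ℕ}
  (e : Fin M → (K ⟶ G))

theorem appS_smulHom {Y : Scheme.{u}} {P Q : Y.Modules} (c : Γ(Y, ⊤)) (φ : P ⟶ Q) (W : Y.Opens) (s : Sec P W) :
    appS (c • φ) W s = resO Y (le_top : W ≤ ⊤) c • appS φ W s :=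
  Groth.Agent.LoccohB.SectLin303.smul_app c φ W s

theorem app_resO' {Y Z : Scheme.{u}} (i : Z ⟶ Y) {N V : Y.Opens} (h : V ≤ N) (R : Γ(Y, N)) :
    i.app V (resO Y h R) = resO Z (i.preimage_mono h) (i.app N R) := by
  have := i.naturality (homOfLE h).op
  exact congr($this R)

/-- Constants. -/
theorem app_cst (Ω : Type u) [Field Ω] [Algebra k Ω] {V : X.Opens} (a : k) :
    (pullback.fst (st k X) (SpA k Ω).hom).app V (K945.GenSec.cst (st k X) V a) =
      resO _ (le_top : (pullback.fst (st k X) (SpA k Ω).hom) ⁻¹ᵁ V ≤ ⊤)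
        (fT k X (SpA k Ω) (fn k (algebraMap k Ω a))) := by
  have h1 : (K945.GenSec.cst (st k X) V a) = resO X (le_top : V ≤ ⊤) ((st k X).appTop (kOf k a)) := rfl
  have h2 : fn k (algebraMap k Ω a) = (SpA k Ω).hom.appTop (kOf k a) :=
    (K824.Join.appTop_kOf (algebraMap k Ω) a).symm
  rw [h1, h2, ← fT_const]
  exact app_resO' (pullback.fst (st k X) (SpA k Ω).hom) _ _

/-- The values of the coefficients span. -/
theorem span_coord (hqK : Coh.IsQCoh K) (hqG : Coh.IsQCoh G) (he : Epi (biproduct.desc e)) {V : X.Opens}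
    (hV : IsAffineOpen V) {κ : Fin 1 → Sec K V} (hκ : IsLocBasis κ) {g : Fin n → Sec G V} (hg : IsLocBasis g)
    (f : Fin M → Fin n → Γ(X, V)) (hf : ∀ l, appS (e l) V (κ 0) = ∑ a, f l a • g a) {F : Type*} [Field F]
    (φ : Γ(X, V) →+* F) : Submodule.span F (Set.range fun l => (fun a => φ (f l a) : Fin n → F)) = ⊤ := by
  classical
  have h1 : ∀ b, ∃ r : Fin M → Γ(X, V), ∀ a, ∑ l, r l * f l a = if a = b then 1 else 0 := by
    intro b
    obtain ⟨r, hr⟩ := exists_coeff e hqK hqG he hV hκ (g b)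
    refine ⟨r, fun a => ?_⟩
    have h2 : ∑ a, (∑ l, r l * f l a) • g a = ∑ a, (if a = b then (1 : Γ(X, V)) else 0) • g a := by
      have h3 : ∑ a, (if a = b then (1 : Γ(X, V)) else 0) • g a = g b := by
        rw [Finset.sum_eq_single b]
        · rw [if_pos rfl, _root_.one_smul]
        · intro a _ ha
          rw [if_neg ha, zero_smul]
        · simp
      rw [h3, hr]
      simp only [hf, Finset.smul_sum, smul_smul, Finset.sum_smul]
      exact Finset.sum_comm
    exact congrFun (coord_unique hg h2) a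
  rw [eq_top_iff]
  intro v _
  have h4 : v = ∑ b, v b • (Pi.single b 1 : Fin n → F) := by
    funext a
    simp [Finset.sum_apply, Pi.single_apply]
  rw [h4]
  refine Submodule.sum_mem _ fun b _ => Submodule.smul_mem _ _ ?_
  obtain ⟨r, hr⟩ := h1 b
  have h5 : (Pi.single b 1 : Fin n → F) = ∑ l, φ (r l) • (fun a => φ (f l a) : Fin n → F) := by
    funext a
    rw [Finset.sum_apply]
    have h6 := congrArg φ (hr a)
    rw [map_sum] at h6
    simp only [map_mul] at h6
    simp only [Pi.smul_apply, smul_eq_mul]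
    rw [h6, Pi.single_apply]
    split_ifs <;> simp
  rw [h5]
  exact Submodule.sum_mem _ fun l _ => Submodule.smul_mem _ _ (Submodule.subset_span ⟨l, rfl⟩)

/-- A coordinate does not vanish. -/
theorem exists_basicOpen [LocallyOfFiniteType (st k X)] (hdim : topologicalKrullDim X ≤ 1) (hn : 2 ≤ n)
    (hqK : Coh.IsQCoh K) (hqG : Coh.IsQCoh G) (he : Epi (biproduct.desc e)) {V : X.Opens}
    (hV : IsAffineOpen V) {κ : Fin 1 → Sec K V} (hκ : IsLocBasis κ) {g : Fin (n + 1) → Sec G V} (hg : IsLocBasis g)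
    (f : Fin M → Fin (n + 1) → Γ(X, V)) (hf : ∀ l, appS (e l) V (κ 0) = ∑ a, f l a • g a)
    (Ω : Type u) [Field Ω] [Algebra k Ω] {γ : Fin M → Ω} (hγ : Gen k γ)
    {z : (PicF.XT (st k X) (SpA k Ω) : Scheme.{u})} (hz : z ∈ (pullback.fst (st k X) (SpA k Ω).hom) ⁻¹ᵁ V) :
    ∃ a, z ∈ (PicF.XT (st k X) (SpA k Ω)).basicOpen
      (∑ l, resO _ (le_top : (pullback.fst (st k X) (SpA k Ω).hom) ⁻¹ᵁ V ≤ ⊤)
          (fT k X (SpA k Ω) (fn k (γ l))) * (pullback.fst (st k X) (SpA k Ω).hom).app V (f l a)) := by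
  let p1 : PicF.XT (st k X) (SpA k Ω) ⟶ X := pullback.fst (st k X) (SpA k Ω).hom
  let ev : Γ(PicF.XT (st k X) (SpA k Ω), p1 ⁻¹ᵁ V) →+* (PicF.XT (st k X) (SpA k Ω)).residueField z :=
    ((PicF.XT (st k X) (SpA k Ω)).evaluation (p1 ⁻¹ᵁ V) z hz).hom
  let ψ₀ : Ω →+* (PicF.XT (st k X) (SpA k Ω)).residueField z :=
    ev.comp ((resO _ (le_top : p1 ⁻¹ᵁ V ≤ ⊤)).comp ((PicF.XTproj (st k X) (SpA k Ω)).appTop.hom.comp (fn k)))
  let φ₀ : Γ(X, V) →+* (PicF.XT (st k X) (SpA k Ω)).residueField z := ev.comp (p1.app V).hom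
  let algF : Algebra k ((PicF.XT (st k X) (SpA k Ω)).residueField z) := (ψ₀.comp (algebraMap k Ω)).toAlgebra
  let algB : Algebra k Γ(X, V) := (K945.GenSec.cst (st k X) V).toAlgebra
  let ψ : Ω →ₐ[k] (PicF.XT (st k X) (SpA k Ω)).residueField z := { ψ₀ with commutes' := fun _ => rfl }
  let φ : Γ(X, V) →ₐ[k] (PicF.XT (st k X) (SpA k Ω)).residueField z :=
    { φ₀ with commutes' := fun a => congrArg ev (app_cst Ω a) }
  have hft : Algebra.FiniteType k Γ(X, V) := K945.GenSec.finiteType_cst (st k X) hV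
  obtain ⟨a, ha⟩ := K761.GenRank.exists_ne_zero (K761.GenRank.gen_map ψ hγ)
    ((K945.GenSec.ringKrullDim_le V hV).trans hdim) φ hn f (span_coord e hqK hqG he hV hκ hg f hf φ₀)
  refine ⟨a, ((PicF.XT (st k X) (SpA k Ω)).evaluation_ne_zero_iff_mem_basicOpen z hz _).1 ?_⟩
  intro h0
  apply ha
  rw [← h0]
  change _ = ev _
  rw [map_sum]
  refine Finset.sum_congr rfl fun l _ => ?_
  rw [map_mul, mul_comm]
  rfl

/-- **The cokernel is locally free.** -/
theorem isFinLocFreeOfRank [LocallyOfFiniteType (st k X)] (hdim : topologicalKrullDim X ≤ 1) (hn : 2 ≤ n)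
    (hK : FlatMod.IsFinLocFreeOfRank 1 K) (hG : FlatMod.IsFinLocFreeOfRank (n + 1) G)
    (he : Epi (biproduct.desc e)) (Ω : Type u) [Field Ω] [Algebra k Ω] {γ : Fin M → Ω} (hγ : Gen k γ) :
    FlatMod.IsFinLocFreeOfRank n (VA (k := k) e Ω γ) := by
  have hqK := K524.X1Coker.qcoh_of_rank hK
  have hqG := K524.X1Coker.qcoh_of_rank hG
  have hKT : FlatMod.IsFinLocFreeOfRank 1 (cst k (SpA k Ω) K) := PerfB.FibreConc.isFinLocFreeOfRank_pullback _ hK
  have hGT : FlatMod.IsFinLocFreeOfRank (n + 1) (cst k (SpA k Ω) G) :=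
    PerfB.FibreConc.isFinLocFreeOfRank_pullback _ hG
  have hqKT := K524.X1Coker.qcoh_of_rank hKT
  refine K524.X1Coker.rank_of_support hKT hGT (ueA (k := k) e Ω γ) fun z => ?_
  let p1 : PicF.XT (st k X) (SpA k Ω) ⟶ X := pullback.fst (st k X) (SpA k Ω).hom
  obtain ⟨V, hV, κ, g, hzV, hκ, hg⟩ := exists_bases hK hG (p1 z)
  have h1 : ∀ l, ∃ c : Fin (n + 1) → Γ(X, V), appS (e l) V (κ 0) = ∑ a, c a • g a := fun l => exists_coord hg _
  choose f hf using h1
  have hz : z ∈ p1 ⁻¹ᵁ V := hzV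
  obtain ⟨a, ha⟩ := exists_basicOpen e hdim hn hqK hqG he hV hκ hg f hf Ω hγ hz
  refine notMem_support hqKT hGT (ueA (k := k) e Ω γ) (pbS p1 K (κ 0)) (isLocBasis_pbS p1 hg)
    (fun a => ∑ l, resO _ (le_top : p1 ⁻¹ᵁ V ≤ ⊤) (fT k X (SpA k Ω) (fn k (γ l))) * p1.app V (f l a)) ?_ a ha
  have h2 : ueA (k := k) e Ω γ = ∑ l, fT k X (SpA k Ω) (fn k (γ l)) • cm (SpA k Ω) (e l) := rfl
  rw [h2, appS_sum]
  have h3 : ∀ l, appS (fT k X (SpA k Ω) (fn k (γ l)) • cm (SpA k Ω) (e l)) (p1 ⁻¹ᵁ V) (pbS p1 K (κ 0)) =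
      ∑ a, (resO _ (le_top : p1 ⁻¹ᵁ V ≤ ⊤) (fT k X (SpA k Ω) (fn k (γ l))) * p1.app V (f l a)) •
        pbS p1 G (g a) := by
    intro l
    rw [appS_smulHom]
    have h4 : appS (cm (SpA k Ω) (e l)) (p1 ⁻¹ᵁ V) (pbS p1 K (κ 0)) = pbS p1 G (appS (e l) V (κ 0)) :=
      appS_pbS p1 (e l) (κ 0)
    rw [h4, hf, map_sum, Finset.smul_sum]
    refine Finset.sum_congr rfl fun a _ => ?_
    rw [pbS_smul, smul_smul]
  simp only [h3]
  rw [Finset.sum_comm]
  refine Finset.sum_congr rfl fun a _ => ?_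
  rw [Finset.sum_smul]

/-- **The map is a monomorphism.** -/
theorem mono_ueA [LocallyOfFiniteType (st k X)] (hdim : topologicalKrullDim X ≤ 1) (hn : 2 ≤ n)
    (hK : FlatMod.IsFinLocFreeOfRank 1 K) (hG : FlatMod.IsFinLocFreeOfRank (n + 1) G)
    (he : Epi (biproduct.desc e)) (Ω : Type u) [Field Ω] [Algebra k Ω] {γ : Fin M → Ω} (hγ : Gen k γ) :
    Mono (ueA (k := k) e Ω γ) :=
  K524.X1Coker.mono_of_rank (PerfB.FibreConc.isFinLocFreeOfRank_pullback _ hK)
    (PerfB.FibreConc.isFinLocFreeOfRank_pullback _ hG) _ (isFinLocFreeOfRank e hdim hn hK hG he Ω hγ)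

/-- The hypothesis with coproducts. -/
theorem epi_biproduct (he : Epi (Limits.Sigma.desc e)) : Epi (biproduct.desc e) := by
  have h1 : Limits.Sigma.desc e = (biproduct.isoCoproduct (fun _ : Fin M => K)).inv ≫ biproduct.desc e := by
    apply Limits.Sigma.hom_ext
    intro l
    rw [Limits.Sigma.ι_desc, biproduct.isoCoproduct_inv, Limits.Sigma.ι_desc_assoc, biproduct.ι_desc]
  rw [h1] at he
  exact epi_of_epi (biproduct.isoCoproduct (fun _ : Fin M => K)).inv (biproduct.desc e)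

end main

end K761.VpRank
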