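import Groth.Agent.BunMod.K276.GenAlg
import Groth.Agent.CalgC.DimFT

/-!
# Values at a point of a curve and points of codimension at most one (S16926, VP-rank)

* `gen_map`: `Gen k x` is kept under extension of the field;
* `exists_cl`: the values at a point of an algebra of dimension at most one are algebraic over one element;
* `exists_ne_zero`: at most two independent equations with coefficients functions on a curve vanish at `x`.
-/

set_option autoImplicit false

open Algebra Module K276.GenAlg

namespace K761.GenRank

variable {k F F' : Type*} [Field k] [Field F] [Algebra k F] [Field F'] [Algebra k F'] {σ : Type*} [Fintype σ]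

theorem gen_map (ψ : F →ₐ[k] F') {x : σ → F} (hx : Gen k x) : Gen k (fun l => ψ (x l)) := by
  classical
  intro S hS h
  obtain ⟨B, hB⟩ := (AlgebraicIndependent.matroid k F).exists_isBasis (Set.range x) (Set.subset_univ _)
  have hBf : B.Finite := (Set.finite_range x).subset hB.subset
  have h1 : Fintype.card σ ≤ B.ncard + 1 := by
    refine hx B hBf fun l => ?_
    have h2 : x l ∈ (AlgebraicIndependent.matroid k F).closure B := by
      rw [hB.closure_eq_closure]
      exact (AlgebraicIndependent.matroid k F).mem_closure_of_mem ⟨l, rfl⟩ (Set.subset_univ _)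
    rw [← coe_cl] at h2
    exact h2
  have hind : AlgebraicIndependent k (fun b : B => (b : F)) := by
    have := hB.indep
    rw [AlgebraicIndependent.matroid_indep_iff] at this
    exact this
  have hind' : AlgebraicIndependent k (fun b : B => ψ (b : F)) := hind.map' ψ.injective
  have : Fintype B := hBf.fintype
  have h3 := card_le S hS (fun b : B => ψ (b : F)) hind' (fun b => by
    obtain ⟨l, hl⟩ := hB.subset b.2
    have h4 : ψ (x l) ∈ cl k S := h l
    rw [hl] at h4
    exact h4)
  have h5 : B.ncard = Fintype.card B := by
    rw [← Nat.card_coe_set_eq, Nat.card_eq_fintype_card]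
  omega

/-- The values at a point of an algebra of finite type and dimension at most one. -/
theorem exists_cl {B : Type*} [CommRing B] [Algebra k B] [Algebra.FiniteType k B] (hdim : ringKrullDim B ≤ 1)
    (φ : B →ₐ[k] F) : ∃ s : F, ∀ b, φ b ∈ cl k {s} := by
  classical
  have hft : Algebra.FiniteType k φ.range := Algebra.FiniteType.of_surjective φ.rangeRestrict φ.rangeRestrict_surjective
  have hd : ringKrullDim φ.range ≤ 1 :=
    (ringKrullDim_le_of_surjective φ.rangeRestrict.toRingHom φ.rangeRestrict_surjective).trans hdim
  obtain ⟨s, g, hg, hgf⟩ := exists_finite_inj_algHom_of_fg k φ.range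
  algebraize [g.toRingHom]
  have : Module.Finite (MvPolynomial (Fin s) k) φ.range := hgf
  have : Algebra.IsIntegral (MvPolynomial (Fin s) k) φ.range := inferInstance
  have hfs : FaithfulSMul (MvPolynomial (Fin s) k) φ.range :=
    (faithfulSMul_iff_algebraMap_injective _ _).mpr hg
  have hs : s ≤ 1 := by
    rw [Groth.Agent.CalgC.DimFT.ringKrullDim_eq_of_isIntegral (R := MvPolynomial (Fin s) k),
      Groth.Agent.CalgC.DimFT.ringKrullDim_mvPolynomial_fin s] at hd
    exact_mod_cast hd
  -- the element
  let t : Fin s → F := fun i => (g (MvPolynomial.X i) : F)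
  obtain ⟨y, hy⟩ : ∃ y : F, ∀ i, t i = y := by
    by_cases h0 : s = 0
    · subst h0
      exact ⟨0, fun i => i.elim0⟩
    · have h1 : s = 1 := by omega
      subst h1
      exact ⟨t 0, fun i => by rw [Subsingleton.elim i 0]⟩
  refine ⟨y, fun b => ?_⟩
  have hgy : ∀ p : MvPolynomial (Fin s) k, (g p : F) ∈ Algebra.adjoin k {y} := by
    intro p
    induction p using MvPolynomial.induction_on with
    | C a =>
      have h1 : g (MvPolynomial.C a) = algebraMap k φ.range a := g.commutes a
      rw [h1]
      exact Subalgebra.algebraMap_mem _ a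
    | add p q hp hq => rw [map_add]; exact add_mem hp hq
    | mul_X p i hp =>
      rw [map_mul]
      refine mul_mem hp ?_
      have h1 := hy i
      simp only [t] at h1
      rw [h1]
      exact Algebra.subset_adjoin rfl
  let i : MvPolynomial (Fin s) k →+* Algebra.adjoin k {y} :=
    (φ.range.val.comp g).toRingHom.codRestrict (Algebra.adjoin k {y}).toSubring hgy
  have hint : (algebraMap (MvPolynomial (Fin s) k) φ.range).IsIntegralElem ⟨φ b, b, rfl⟩ :=
    Algebra.IsIntegral.isIntegral _
  obtain ⟨p, hp, hp0⟩ := hint
  refine IsIntegral.isAlgebraic ⟨p.map i, hp.map i, ?_⟩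
  rw [Polynomial.eval₂_map]
  have h2 := congrArg (φ.range.val : φ.range →+* F) hp0
  rw [Polynomial.hom_eval₂, map_zero] at h2
  exact h2

/-- At most two independent equations with coefficients functions on a curve vanish at `x`. -/
theorem exists_ne_zero {x : σ → F} (hx : Gen k x) {B : Type*} [CommRing B] [Algebra k B] [Algebra.FiniteType k B]
    (hdim : ringKrullDim B ≤ 1) (φ : B →ₐ[k] F) {n : ℕ} (hn : 2 ≤ n) (f : σ → Fin (n + 1) → B)
    (hspan : Submodule.span F (Set.range fun l => (fun a => φ (f l a) : Fin (n + 1) → F)) = ⊤) :
    ∃ a, ∑ l, φ (f l a) * x l ≠ 0 := by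
  classical
  by_contra hcon
  push Not at hcon
  obtain ⟨s, hs⟩ := exists_cl hdim φ
  have hind : LinearIndependent F (fun (a : Fin (n + 1)) (l : σ) => φ (f l a)) := by
    rw [Fintype.linearIndependent_iff]
    intro g hg
    have h1 : (Fintype.linearCombination F g : (Fin (n + 1) → F) →ₗ[F] F) = 0 := by
      apply LinearMap.ext_on_range hspan
      intro l
      have h2 := congrFun hg l
      simp only [Finset.sum_apply, Pi.smul_apply, smul_eq_mul, Pi.zero_apply] at h2
      rw [Fintype.linearCombination_apply, LinearMap.zero_apply, ← h2]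
      exact Finset.sum_congr rfl fun a _ => by rw [smul_eq_mul, mul_comm]
    intro a
    have h3 := LinearMap.congr_fun h1 (Pi.single a 1)
    rw [Fintype.linearCombination_apply_single, one_smul] at h3
    exact h3
  have h := card_le_two hx s (fun a l => φ (f l a)) (fun a l => hs _) hind hcon
  omega

end K761.GenRank
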